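import Cfsg.Agent.Lib.CosetEnum.Defs

/-!
# Matrices over the field with five elements, one natural number to a matrix: the checks

The entry in row `i` and column `k` of an `n` by `n` matrix sits in place `n * i + k`, 16 bits to
a place. A product is a sum of `n` products of a packed column and a packed row, reduced modulo
five in all places at once.
-/

set_option autoImplicit false

namespace Cfsg.Lib.BigMat

open CosetEnum (force)

/-- The packing base. -/
def base : Nat := 65536

/-- The sum of the first `m` powers of `base ^ s`. -/
noncomputable def geo (s m : Nat) : Nat :=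
  Nat.div (Nat.sub (Nat.pow base (Nat.mul s m)) 1) (Nat.sub (Nat.pow base s) 1)

/-- All bits in the places of the first column. -/
noncomputable def colMask (n : Nat) : Nat := Nat.mul 65535 (geo n n)

/-- All bits in the places of the first row. -/
noncomputable def rowMask (n : Nat) : Nat := Nat.sub (Nat.pow base n) 1

/-- The unit matrix. -/
noncomputable def one (n : Nat) : Nat := geo (Nat.add n 1) n

/-- Reduce all places modulo five, given the sum `o` of all places' units: first by
`64 ≡ 4`, then by the multiplier `205`, which is `2 ^ 10 / 5` rounded up. -/
noncomputable def reduce (o y : Nat) : Nat :=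
  force (Nat.mul 63 o) fun lo =>
    force (Nat.add (Nat.land y lo)
      (Nat.mul 4 (Nat.land (Nat.shiftRight y 6) (Nat.mul 1023 o)))) fun z =>
      Nat.sub z (Nat.mul 5 (Nat.land (Nat.shiftRight (Nat.mul z 205) 10) lo))

/-- Column `k` of `A` times row `k` of `B`, summed over `k` below a bound. -/
noncomputable def acc (cm rm n A B : Nat) (j : Nat) : Nat :=
  Nat.rec (motive := fun _ => Nat) 0
    (fun k ih => Nat.add (Nat.mul (Nat.land (Nat.shiftRight A (Nat.mul 16 k)) cm)
      (Nat.land (Nat.shiftRight B (Nat.mul 16 (Nat.mul n k))) rm)) ih) j

/-- The product of two matrices. -/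
noncomputable def mul (n A B : Nat) : Nat :=
  force (colMask n) fun cm => force (rowMask n) fun rm => force (geo 1 (Nat.mul n n)) fun o =>
    force (acc cm rm n A B n) fun y => reduce o y

/-- The product of a word read with the first letter last. -/
noncomputable def prodWord (n : Nat) (M : Nat → Nat) (w : List Nat) : Nat :=
  List.rec (motive := fun _ => Nat) (one n)
    (fun g _ ih => force ih fun y => force (M g) fun x => mul n y x) w

/-- A matrix with reduced entries. -/
noncomputable def matOK (n A : Nat) : Bool :=
  force (geo 1 (Nat.mul n n)) fun o =>
    Nat.beq (Nat.land A (Nat.mul 7 o)) A && Nat.beq (Nat.land (Nat.add A (Nat.mul 3 o)) (Nat.mul 8 o)) 0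

end Cfsg.Lib.BigMat
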