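import Cfsg.Agent.Lib.BigMat.Units
import Cfsg.Agent.Lib.CosetEnum.Signed.Words

/-!
# A presented group acting through packed matrices
-/

set_option autoImplicit false

namespace Cfsg.Lib.BigMat

open CosetEnum

/-- A generator whose letter is not the unit matrix is not trivial in a group presented by relators
whose words multiply to the unit matrix. -/
theorem mk_ne_one {β : Type*} [DecidableEq β] {n k : ℕ} (hn0 : 0 < n) (hn : n ≤ 127)
    (M : ℕ → ℕ) (hok : ∀ g < k + k, matOK n (M g) = true)
    (hinv : ∀ g < k + k, Nat.beq (mul n (M g) (M (Signed.flipAt k g))) (one n) = true)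
    (gw : β → List ℕ) (hgw : ∀ b, ∀ l ∈ gw b, l < k + k) (R : Set (FreeGroup β))
    (hR : ∀ r ∈ R, Nat.beq (prodWord n M (Signed.relatorWord k gw r).reverse) (one n) = true)
    {b : β} {g : ℕ} (hb : gw b = [g]) (hne : Nat.beq (M g) (one n) = false) :
    PresentedGroup.mk R (FreeGroup.of b) ≠ 1 := by
  have hflip : ∀ g < k + k, Signed.flipAt k g < k + k ∧ Signed.flipAt k (Signed.flipAt k g) = g := by
    intro g hg
    refine ⟨Signed.flipAt_lt hg, ?_⟩
    unfold Signed.flipAt
    split_ifs <;> omega
  obtain ⟨e, he⟩ := exists_units hn0 hn M (Signed.flipAt k) hflip hok hinv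
  have hpair : ∀ g < k, e g * e (g + k) = 1 := fun g hg => by
    have := (he g (by omega)).2
    rwa [show Signed.flipAt k g = g + k from if_pos hg] at this
  let F : β → GL (Fin n) (ZMod 5) := fun x => ((gw x).map e).prod
  have hrel : ∀ r ∈ R, FreeGroup.lift F r = 1 := by
    intro r hr
    obtain ⟨h1, h2⟩ := Signed.relatorWord_spec hpair gw hgw (FreeGroup.lift F) r fun p _ => by
      rw [FreeGroup.lift_apply_of]
    rw [← h2]
    have hM : ∀ a ∈ Signed.relatorWord k gw r, IsMat n (M a) := fun a ha =>
      isMat_of_matOK (hok a (h1 a ha))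
    refine Units.ext ?_
    rw [units_word M e fun a ha => (he a (h1 a ha)).1, word_eq_of_beq hn0 hn M hM (hR r hr),
      isMat_one.2, Units.val_one]
  intro h
  have hg : g < k + k := hgw b g (by simp [hb])
  have h' := congrArg (PresentedGroup.toGroup hrel) h
  rw [show PresentedGroup.mk R (FreeGroup.of b) = PresentedGroup.of b from rfl,
    PresentedGroup.toGroup.of, map_one] at h'
  have h0 : toMat n (M g) = toMat n (one n) := by
    rw [isMat_one.2, ← (he g hg).1, ← Units.val_one, ← h']
    simp [F, hb]
  rw [toMat_inj (isMat_of_matOK (hok g hg)) isMat_one.1 h0, Nat.beq_refl] at hne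
  exact Bool.noConfusion hne

end Cfsg.Lib.BigMat
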