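import Mathlib
import Cfsg.Agent.Lib.BigMat.Defs
import Cfsg.Agent.Lib.CosetEnum.Check

/-!
# Matrices over the field with five elements, one natural number to a matrix: meaning of the checks
-/

set_option autoImplicit false

namespace Cfsg.Lib.BigMat

open CosetEnum (force force_eq)

theorem base_eq : base = 2 ^ 16 := by decide

/-- The contents of a place. -/
def dig (x m : ℕ) : ℕ := x / base ^ m % base

theorem dig_land (x y m : ℕ) : dig (x &&& y) m = dig x m &&& dig y m := by
  simp only [dig, base_eq, ← pow_mul]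
  refine Nat.eq_of_testBit_eq fun i => ?_
  simp only [Nat.testBit_and, Nat.testBit_mod_two_pow, Nat.testBit_div_two_pow]
  by_cases h : i < 16 <;> simp [h]

theorem dig_shift (x k m : ℕ) : dig (x >>> (16 * k)) m = dig x (m + k) := by
  rw [dig, dig, Nat.shiftRight_eq_div_pow, pow_mul, ← base_eq, Nat.div_div_eq_div_mul, ← pow_add,
    add_comm k]

theorem sum_dig {N x : ℕ} (h : x < base ^ N) :
    ∑ m ∈ Finset.range N, dig x m * base ^ m = x := by
  have : ∀ N, ∑ m ∈ Finset.range N, dig x m * base ^ m = x % base ^ N := by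
    intro N
    induction N with
    | zero => simp [Nat.mod_one]
    | succ N ih =>
      rw [Finset.sum_range_succ, ih, pow_succ, Nat.mod_mul, dig]
      ring
  rw [this, Nat.mod_eq_of_lt h]

theorem sum_lt (f : ℕ → ℕ) : ∀ {N : ℕ}, (∀ m < N, f m < base) →
    ∑ m ∈ Finset.range N, f m * base ^ m < base ^ N
  | 0, _ => by simp
  | N + 1, h => by
    rw [Finset.sum_range_succ, pow_succ]
    calc _ < base ^ N + f N * base ^ N :=
          Nat.add_lt_add_right (sum_lt f fun m hm => h m (by omega)) _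
      _ = base ^ N * (f N + 1) := by ring
      _ ≤ base ^ N * base := Nat.mul_le_mul_left _ (h N (by omega))

theorem dig_sum (f : ℕ → ℕ) : ∀ {N : ℕ}, (∀ m < N, f m < base) → ∀ m,
    dig (∑ i ∈ Finset.range N, f i * base ^ i) m = if m < N then f m else 0
  | 0, _, m => by simp [dig]
  | N + 1, h, m => by
    have hs := sum_lt f (N := N) fun i hi => h i (by omega)
    have ih := dig_sum f (N := N) (fun i hi => h i (by omega)) m
    rw [Finset.sum_range_succ]
    rcases lt_trichotomy m N with hm | rfl | hm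
    · rw [if_pos hm] at ih
      rw [if_pos (by omega), ← ih]
      simp only [dig]
      rw [show f N * base ^ N = base ^ m * (f N * base ^ (N - m - 1) * base) by
        rw [mul_assoc (f N), ← pow_succ, mul_left_comm, ← pow_add,
          show m + (N - m - 1 + 1) = N by omega],
        Nat.add_mul_div_left _ _ (pow_pos (by decide) _), Nat.add_mul_mod_self_right]
    · rw [if_pos (by omega), dig, mul_comm, Nat.add_mul_div_left _ _ (pow_pos (by decide) _),
        Nat.div_eq_of_lt hs, zero_add, Nat.mod_eq_of_lt (h m (by omega))]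
    · rw [if_neg (by omega), dig, Nat.div_eq_of_lt, Nat.zero_mod]
      have h2 := sum_lt f (N := N + 1) h
      rw [Finset.sum_range_succ] at h2
      exact h2.trans_le (Nat.pow_le_pow_right (by decide) hm)

theorem eq_sum_of_dig {x N : ℕ} (hx : x < base ^ N) (f : ℕ → ℕ)
    (h : ∀ m < N, dig x m = f m) : x = ∑ m ∈ Finset.range N, f m * base ^ m := by
  rw [← sum_dig hx]
  exact Finset.sum_congr rfl fun m hm => by rw [h m (Finset.mem_range.1 hm)]

theorem geo_eq {s : ℕ} (hs : 0 < s) (m : ℕ) :
    geo s m = ∑ i ∈ Finset.range m, base ^ (s * i) := by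
  have h1 : 1 < base ^ s := Nat.one_lt_pow (by omega) (by decide)
  have : geo s m = (base ^ (s * m) - 1) / (base ^ s - 1) := rfl
  rw [this, pow_mul, ← Nat.geomSum_eq h1 m]
  simp [pow_mul]

theorem dig_geo_one (N c : ℕ) (hc : c < base) (m : ℕ) :
    dig (c * geo 1 N) m = if m < N then c else 0 := by
  rw [geo_eq one_pos, Finset.mul_sum]
  simpa using dig_sum (fun _ => c) (N := N) (fun _ _ => hc) m

theorem geo_one_lt (N c : ℕ) (hc : c < base) : c * geo 1 N < base ^ N := by
  rw [geo_eq one_pos, Finset.mul_sum]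
  simpa using sum_lt (fun _ => c) (N := N) fun _ _ => hc

variable {n : ℕ}

theorem sum_square {M : Type*} [AddCommMonoid M] (F : ℕ → M) : ∀ a b : ℕ,
    ∑ m ∈ Finset.range (a * b), F m =
      ∑ i ∈ Finset.range a, ∑ j ∈ Finset.range b, F (b * i + j)
  | 0, b => by simp
  | a + 1, b => by
    rw [Finset.sum_range_succ, ← sum_square F a b, add_mul, one_mul, Finset.sum_range_add,
      mul_comm b a]

theorem index_lt {i j : ℕ} (hi : i < n) (hj : j < n) : n * i + j < n * n := by
  calc n * i + j < n * i + n := by omega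
    _ = n * (i + 1) := by ring
    _ ≤ n * n := Nat.mul_le_mul_left _ hi

theorem index_div {i j : ℕ} (hj : j < n) : (n * i + j) / n = i ∧ (n * i + j) % n = j := by
  refine ⟨?_, by rw [Nat.mul_add_mod, Nat.mod_eq_of_lt hj]⟩
  rw [Nat.mul_add_div (by omega), Nat.div_eq_of_lt hj, add_zero]

theorem colMask_eq (hn : 0 < n) : colMask n =
    ∑ m ∈ Finset.range (n * n), (if m % n = 0 then base - 1 else 0) * base ^ m := by
  show 65535 * geo n n = _
  rw [geo_eq hn, Finset.mul_sum, sum_square]
  refine Finset.sum_congr rfl fun i _ => ?_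
  rw [Finset.sum_eq_single 0 (fun j hj h0 => by
    rw [(index_div (Finset.mem_range.1 hj)).2, if_neg h0, zero_mul])
    (fun h => absurd (Finset.mem_range.2 hn) h)]
  simp [base]

/-- The entries of a packed matrix. -/
def ent (n x i j : ℕ) : ℕ := dig x (n * i + j)

/-- A packed matrix with reduced entries. -/
def IsMat (n x : ℕ) : Prop := x < base ^ (n * n) ∧ ∀ m, dig x m < 5

theorem land_mask_pow (x y : ℕ) : (x &&& (base - 1)) = x % base ∧ (x &&& (base ^ y - 1)) = x % base ^ y := by
  simp only [base_eq, ← pow_mul]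
  exact ⟨Nat.and_two_pow_sub_one_eq_mod _ _, Nat.and_two_pow_sub_one_eq_mod _ _⟩

theorem col_eq (hn : 0 < n) (A k : ℕ) (hk : k < n) : A >>> (16 * k) &&& colMask n =
    ∑ i ∈ Finset.range n, ent n A i k * base ^ (n * i) := by
  have hb : ∀ m < n * n, (if m % n = 0 then base - 1 else 0) < base := fun m _ => by
    split <;> simp [base]
  have hlt : A >>> (16 * k) &&& colMask n < base ^ (n * n) :=
    Nat.and_le_right.trans_lt (colMask_eq hn ▸ sum_lt _ hb)
  have hd : ∀ m < n * n, dig (A >>> (16 * k) &&& colMask n) m =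
      if m % n = 0 then dig A (m + k) else 0 := by
    intro m hm
    rw [dig_land, dig_shift, colMask_eq hn, dig_sum _ hb, if_pos hm]
    split
    · rw [(land_mask_pow _ 0).1]; exact Nat.mod_eq_of_lt (Nat.mod_lt _ (by decide))
    · simp
  rw [eq_sum_of_dig hlt _ hd, sum_square]
  refine Finset.sum_congr rfl fun i _ => ?_
  rw [Finset.sum_eq_single 0 (fun j hj h0 => by
    rw [(index_div (Finset.mem_range.1 hj)).2, if_neg h0, zero_mul])
    (fun h => absurd (Finset.mem_range.2 hn) h)]
  simp [ent]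

theorem row_eq (B k : ℕ) : B >>> (16 * (n * k)) &&& rowMask n =
    ∑ j ∈ Finset.range n, ent n B k j * base ^ j := by
  show B >>> (16 * (n * k)) &&& (base ^ n - 1) = _
  rw [(land_mask_pow _ n).2]
  refine eq_sum_of_dig (Nat.mod_lt _ (pow_pos (by decide) _)) _ fun m hm => ?_
  rw [ent, add_comm (n * k) m, ← dig_shift, dig, dig,
    show base ^ n = base ^ m * base ^ (n - m) by rw [← pow_add]; congr 1; omega,
    Nat.mod_mul_right_div_self, Nat.mod_mod_of_dvd _ (dvd_pow_self _ (by omega))]

theorem acc_eq (A B : ℕ) : ∀ j, acc (colMask n) (rowMask n) n A B j =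
    ∑ k ∈ Finset.range j, (A >>> (16 * k) &&& colMask n) * (B >>> (16 * (n * k)) &&& rowMask n)
  | 0 => rfl
  | j + 1 => by
    rw [Finset.sum_range_succ, ← acc_eq A B j]
    exact Nat.add_comm _ _

/-- The two reduction steps, place by place. -/
theorem reduce_place : ∀ d, d < 2048 →
    d % 64 + 4 * (d / 64) < 192 ∧ (d % 64 + 4 * (d / 64)) * 205 / 2 ^ 10 = (d % 64 + 4 * (d / 64)) / 5 ∧
      (d % 64 + 4 * (d / 64)) % 5 = d % 5 := by
  have h : ((List.range 2048).all fun d =>
      Nat.blt (d % 64 + 4 * (d / 64)) 192 &&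
      Nat.beq ((d % 64 + 4 * (d / 64)) * 205 / 2 ^ 10) ((d % 64 + 4 * (d / 64)) / 5) &&
      Nat.beq ((d % 64 + 4 * (d / 64)) % 5) (d % 5)) = true := by
    decide +kernel
  intro d hd
  have := List.all_eq_true.1 h d (List.mem_range.2 hd)
  simp only [Bool.and_eq_true, Nat.beq_eq, Nat.blt_eq] at this
  exact ⟨this.1.1, this.1.2, this.2⟩

/-- Masking the shifted places takes a field of bits from each place. -/
theorem field_eq (f : ℕ → ℕ) {N s w : ℕ} (hw : s + w ≤ 16) (hf : ∀ m < N, f m < base) :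
    ((∑ m ∈ Finset.range N, f m * base ^ m) >>> s) &&& (2 ^ w - 1) * geo 1 N =
      ∑ m ∈ Finset.range N, f m / 2 ^ s % 2 ^ w * base ^ m := by
  have hb : 2 ^ w - 1 < base := by
    have := Nat.pow_le_pow_right (show 0 < 2 by norm_num) (show w ≤ 16 by omega)
    simp only [base]; omega
  refine eq_sum_of_dig (Nat.and_le_right.trans_lt (geo_one_lt _ _ hb)) _ fun m hm => ?_
  rw [dig_land, dig_geo_one _ _ hb, if_pos hm, Nat.and_two_pow_sub_one_eq_mod, dig,
    Nat.shiftRight_eq_div_pow,
    Nat.mod_mod_of_dvd _ (by rw [base_eq]; exact pow_dvd_pow 2 (by omega)),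
    Nat.div_div_eq_div_mul, mul_comm (2 ^ s), ← Nat.div_div_eq_div_mul]
  have hd := dig_sum f hf m
  rw [if_pos hm, dig] at hd
  rw [← hd, show base = 2 ^ s * (2 ^ w * 2 ^ (16 - s - w)) by
      rw [← pow_add, ← pow_add, base_eq]; congr 1; omega, Nat.mod_mul_right_div_self,
    Nat.mod_mod_of_dvd _ (dvd_mul_right _ _)]

theorem reduce_eq (f : ℕ → ℕ) (hf : ∀ m < n * n, f m < 2048) :
    reduce (geo 1 (n * n)) (∑ m ∈ Finset.range (n * n), f m * base ^ m) =
      ∑ m ∈ Finset.range (n * n), f m % 5 * base ^ m := by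
  have hfb : ∀ m < n * n, f m < base := fun m hm => (hf m hm).trans (by decide)
  let g : ℕ → ℕ := fun m => f m % 64 + 4 * (f m / 64)
  have hg : ∀ m < n * n, g m * 205 < base := fun m hm => by
    have := (reduce_place _ (hf m hm)).1
    simp only [base, g]; omega
  have h1 : (∑ m ∈ Finset.range (n * n), f m * base ^ m) &&& 63 * geo 1 (n * n) =
      ∑ m ∈ Finset.range (n * n), f m % 64 * base ^ m := by
    simpa using field_eq f (s := 0) (w := 6) (by norm_num) hfb
  have h2 : (∑ m ∈ Finset.range (n * n), f m * base ^ m) >>> 6 &&& 1023 * geo 1 (n * n) =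
      ∑ m ∈ Finset.range (n * n), f m / 64 * base ^ m := by
    rw [show (1023 : ℕ) = 2 ^ 10 - 1 from rfl, field_eq f (s := 6) (w := 10) (by norm_num) hfb]
    refine Finset.sum_congr rfl fun m hm => ?_
    have := hf m (Finset.mem_range.1 hm)
    rw [show (2 : ℕ) ^ 6 = 64 from rfl, Nat.mod_eq_of_lt (by omega)]
  obtain ⟨z, hz⟩ : ∃ z, z = ∑ m ∈ Finset.range (n * n), g m * base ^ m := ⟨_, rfl⟩
  have hz' : (∑ m ∈ Finset.range (n * n), f m * base ^ m &&& 63 * geo 1 (n * n)) +
      4 * ((∑ m ∈ Finset.range (n * n), f m * base ^ m) >>> 6 &&& 1023 * geo 1 (n * n)) = z := by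
    rw [h1, h2, Finset.mul_sum, ← Finset.sum_add_distrib, hz]
    exact Finset.sum_congr rfl fun m _ => by ring
  have hq : (z * 205) >>> 10 &&& 63 * geo 1 (n * n) =
      ∑ m ∈ Finset.range (n * n), g m / 5 * base ^ m := by
    rw [hz, Finset.sum_mul, Finset.sum_congr rfl fun m _ => mul_right_comm (g m) (base ^ m) 205,
      show (63 : ℕ) = 2 ^ 6 - 1 from rfl, field_eq _ (s := 10) (w := 6) (by norm_num) hg]
    refine Finset.sum_congr rfl fun m hm => ?_
    obtain ⟨k1, k2, -⟩ := reduce_place _ (hf m (Finset.mem_range.1 hm))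
    rw [show g m * 205 / 2 ^ 10 = g m / 5 from k2, Nat.mod_eq_of_lt]
    simp only [g]; omega
  have hsplit : z = 5 * (∑ m ∈ Finset.range (n * n), g m / 5 * base ^ m) +
      ∑ m ∈ Finset.range (n * n), f m % 5 * base ^ m := by
    rw [hz, Finset.mul_sum, ← Finset.sum_add_distrib]
    refine Finset.sum_congr rfl fun m hm => ?_
    rw [← (reduce_place _ (hf m (Finset.mem_range.1 hm))).2.2]
    conv_lhs => rw [← Nat.div_add_mod (g m) 5]
    simp only [g]
    ring
  have e : reduce (geo 1 (n * n)) (∑ m ∈ Finset.range (n * n), f m * base ^ m) =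
      z - 5 * ((z * 205) >>> 10 &&& 63 * geo 1 (n * n)) := by
    simp only [reduce, force_eq]
    rw [← hz']
    rfl
  rw [e, hq]
  omega

/-- The matrix over the field with five elements. -/
def toMat (n x : ℕ) : Matrix (Fin n) (Fin n) (ZMod 5) := Matrix.of fun i j => (ent n x i j : ℕ)

theorem mul_eq (A B : ℕ) : mul n A B = reduce (geo 1 (n * n)) (acc (colMask n) (rowMask n) n A B n) := by
  simp only [mul, force_eq]
  rfl

theorem toMat_mul (hn0 : 0 < n) (hn : n ≤ 127) {A B : ℕ} (hA : IsMat n A) (hB : IsMat n B) :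
    IsMat n (mul n A B) ∧ toMat n (mul n A B) = toMat n A * toMat n B := by
  let f : ℕ → ℕ := fun m => ∑ k ∈ Finset.range n, ent n A (m / n) k * ent n B k (m % n)
  have hf : ∀ m < n * n, f m < 2048 := fun m _ => by
    refine lt_of_le_of_lt ((Finset.sum_le_card_nsmul _ _ 16 fun k _ => ?_).trans
      (le_of_eq (by rw [Finset.card_range, smul_eq_mul]))) (by omega)
    exact Nat.mul_le_mul (Nat.le_of_lt_succ (hA.2 _)) (Nat.le_of_lt_succ (hB.2 _))
  have hacc : acc (colMask n) (rowMask n) n A B n =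
      ∑ m ∈ Finset.range (n * n), f m * base ^ m := by
    rw [acc_eq, sum_square]
    have h1 : ∀ k ∈ Finset.range n,
        (A >>> (16 * k) &&& colMask n) * (B >>> (16 * (n * k)) &&& rowMask n) =
          ∑ i ∈ Finset.range n, ∑ j ∈ Finset.range n,
            ent n A i k * ent n B k j * base ^ (n * i + j) := fun k hk => by
      rw [col_eq hn0 A k (Finset.mem_range.1 hk), row_eq, Finset.sum_mul_sum]
      refine Finset.sum_congr rfl fun i _ => Finset.sum_congr rfl fun j _ => ?_
      rw [pow_add]; ring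
    rw [Finset.sum_congr rfl h1, Finset.sum_comm]
    refine Finset.sum_congr rfl fun i _ => ?_
    rw [Finset.sum_comm]
    refine Finset.sum_congr rfl fun j hj => ?_
    obtain ⟨e1, e2⟩ := index_div (i := i) (Finset.mem_range.1 hj)
    simp only [f, e1, e2, Finset.sum_mul]
  have hr : ∀ m < n * n, f m % 5 < base := fun m _ =>
    (Nat.mod_lt _ (by norm_num)).trans (by decide)
  have hm : mul n A B = ∑ m ∈ Finset.range (n * n), f m % 5 * base ^ m := by
    rw [mul_eq, hacc, reduce_eq f hf]
  refine ⟨⟨hm ▸ sum_lt _ hr, fun m => ?_⟩, ?_⟩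
  · rw [hm, dig_sum _ hr]
    split
    · exact Nat.mod_lt _ (by norm_num)
    · norm_num
  · ext i j
    obtain ⟨e1, e2⟩ := index_div (i := i.1) j.2
    simp only [toMat, Matrix.of_apply, Matrix.mul_apply, ent]
    rw [hm, dig_sum _ hr, if_pos (index_lt i.2 j.2), ZMod.natCast_mod]
    simp only [f, e1, e2, ent, Nat.cast_sum, Nat.cast_mul]
    rw [Finset.sum_range]

theorem one_eq (n : ℕ) : one n =
    ∑ m ∈ Finset.range (n * n), (if m / n = m % n then 1 else 0) * base ^ m := by
  show geo (n + 1) n = _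
  rw [geo_eq n.succ_pos, sum_square]
  refine Finset.sum_congr rfl fun i hi => ?_
  rw [Finset.sum_eq_single i (fun j hj h0 => by
    obtain ⟨e1, e2⟩ := index_div (i := i) (Finset.mem_range.1 hj)
    rw [e1, e2, if_neg (Ne.symm h0), zero_mul]) (fun h => absurd hi h)]
  obtain ⟨e1, e2⟩ := index_div (i := i) (Finset.mem_range.1 hi)
  rw [e1, e2, if_pos rfl, one_mul]
  rw [show n * i + i = (n + 1) * i by ring]

theorem isMat_one : IsMat n (one n) ∧ toMat n (one n) = 1 := by
  have h1 : ∀ m < n * n, (if m / n = m % n then 1 else 0) < base := fun m _ => by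
    split <;> decide
  refine ⟨⟨one_eq n ▸ sum_lt _ h1, fun m => ?_⟩, ?_⟩
  · rw [one_eq, dig_sum _ h1]
    repeat' split
    all_goals norm_num
  · ext i j
    obtain ⟨e1, e2⟩ := index_div (i := i.1) j.2
    simp only [toMat, Matrix.of_apply, ent]
    rw [one_eq, dig_sum _ h1, if_pos (index_lt i.2 j.2), e1, e2, Matrix.one_apply]
    by_cases h : i = j <;> simp [h, Fin.val_inj]

theorem isMat_of_matOK {A : ℕ} (h : matOK n A = true) : IsMat n A := by
  simp only [matOK, force_eq, Bool.and_eq_true, Nat.beq_eq] at h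
  obtain ⟨h1, h2⟩ := h
  replace h1 : A &&& 7 * geo 1 (n * n) = A := h1
  replace h2 : (A + 3 * geo 1 (n * n)) &&& 8 * geo 1 (n * n) = 0 := h2
  have hlt : A < base ^ (n * n) := h1 ▸ Nat.and_le_right.trans_lt (geo_one_lt _ _ (by decide))
  have h8 : ∀ m, dig A m = dig A m &&& (if m < n * n then 7 else 0) := fun m => by
    conv_lhs => rw [← h1, dig_land, dig_geo_one _ _ (by decide)]
  have hb : ∀ m, dig A m < 8 := fun m => by
    rw [h8 m]; exact Nat.and_le_right.trans_lt (by split <;> norm_num)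
  refine ⟨hlt, fun m => ?_⟩
  by_cases hm : m < n * n
  · have hs : A + 3 * geo 1 (n * n) = ∑ i ∈ Finset.range (n * n), (dig A i + 3) * base ^ i := by
      rw [geo_eq one_pos, Finset.mul_sum]
      conv_lhs => rw [← sum_dig hlt]
      rw [← Finset.sum_add_distrib]
      refine Finset.sum_congr rfl fun i _ => ?_
      rw [add_mul, one_mul]
    have h3 := congrArg (dig · m) h2
    simp only [dig_land] at h3
    rw [hs, dig_sum _ (fun i _ => by have := hb i; simp only [base]; omega), if_pos hm,
      dig_geo_one _ _ (by decide), if_pos hm] at h3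
    have := hb m
    have h0 : dig 0 m = 0 := by simp [dig]
    rw [h0] at h3
    have h5 : ∀ d, d < 8 → (d + 3) &&& 8 = 0 → d < 5 := by decide
    exact h5 _ this h3
  · rw [h8 m, if_neg hm, Nat.and_zero]; norm_num

/-- The product of a word read with the first letter last. -/
def matWord (n : ℕ) (M : ℕ → ℕ) : List ℕ → Matrix (Fin n) (Fin n) (ZMod 5)
  | [] => 1
  | g :: w => matWord n M w * toMat n (M g)

theorem toMat_prodWord (hn0 : 0 < n) (hn : n ≤ 127) (M : ℕ → ℕ) :
    ∀ {w : List ℕ}, (∀ g ∈ w, IsMat n (M g)) →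
      IsMat n (prodWord n M w) ∧ toMat n (prodWord n M w) = matWord n M w
  | [], _ => isMat_one
  | g :: w, hw => by
    obtain ⟨h1, h2⟩ := toMat_prodWord hn0 hn M (w := w) fun a ha => hw a (by simp [ha])
    have e : prodWord n M (g :: w) = mul n (prodWord n M w) (M g) :=
      (force_eq (prodWord n M w) fun y => force (M g) fun x => mul n y x).trans
        (force_eq (M g) fun x => mul n (prodWord n M w) x)
    obtain ⟨h3, h4⟩ := toMat_mul hn0 hn h1 (hw g (by simp))
    rw [e, matWord, ← h2]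
    exact ⟨h3, h4⟩

theorem matWord_eq_one (hn0 : 0 < n) (hn : n ≤ 127) (M : ℕ → ℕ) {w : List ℕ}
    (hw : ∀ g ∈ w, IsMat n (M g)) (h : Nat.beq (prodWord n M w) (one n) = true) :
    matWord n M w = 1 := by
  rw [← (toMat_prodWord hn0 hn M hw).2, Nat.eq_of_beq_eq_true h, isMat_one.2]

end Cfsg.Lib.BigMat
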