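import Mathlib
import Cfsg.Agent.Lib.BigMat.Sem

/-!
# Packed matrices as units
-/

set_option autoImplicit false

namespace Cfsg.Lib.BigMat

open Matrix

variable {n : ℕ}

theorem toMat_inj {A B : ℕ} (hA : IsMat n A) (hB : IsMat n B) (h : toMat n A = toMat n B) :
    A = B := by
  rw [← sum_dig hA.1, ← sum_dig hB.1]
  refine Finset.sum_congr rfl fun m hm => ?_
  have hm := Finset.mem_range.1 hm
  have hn : 0 < n := by rcases Nat.eq_zero_or_pos n with rfl | h <;> simp_all
  have e := congrFun₂ h ⟨m / n, (Nat.div_lt_iff_lt_mul hn).2 hm⟩ ⟨m % n, Nat.mod_lt _ hn⟩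
  simp only [toMat, Matrix.of_apply, ent, Nat.div_add_mod] at e
  rw [ZMod.natCast_eq_natCast_iff', Nat.mod_eq_of_lt (hA.2 m), Nat.mod_eq_of_lt (hB.2 m)] at e
  rw [e]

theorem matWord_reverse (M : ℕ → ℕ) : ∀ w : List ℕ,
    matWord n M w.reverse = (w.map fun g => toMat n (M g)).prod
  | [] => rfl
  | g :: w => by
    rw [List.map_cons, List.prod_cons, ← matWord_reverse M w, List.reverse_cons]
    generalize w.reverse = v
    induction v with
    | nil => simp [matWord]
    | cons a v ih => simp [matWord, ih, mul_assoc]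

theorem word_eq_of_beq (hn0 : 0 < n) (hn : n ≤ 127) (M : ℕ → ℕ) {w : List ℕ} {A : ℕ}
    (hw : ∀ g ∈ w, IsMat n (M g)) (h : Nat.beq (prodWord n M w.reverse) A = true) :
    (w.map fun g => toMat n (M g)).prod = toMat n A := by
  rw [← matWord_reverse, ← (toMat_prodWord hn0 hn M fun g hg => hw g (List.mem_reverse.1 hg)).2,
    Nat.eq_of_beq_eq_true h]

/-- Letters with named inverses as units. -/
theorem exists_units (hn0 : 0 < n) (hn : n ≤ 127) (M : ℕ → ℕ) (flip : ℕ → ℕ) {N : ℕ}
    (hflip : ∀ g < N, flip g < N ∧ flip (flip g) = g) (hok : ∀ g < N, matOK n (M g) = true)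
    (hinv : ∀ g < N, Nat.beq (mul n (M g) (M (flip g))) (one n) = true) :
    ∃ e : ℕ → GL (Fin n) (ZMod 5), ∀ g < N,
      (e g : Matrix (Fin n) (Fin n) (ZMod 5)) = toMat n (M g) ∧ e g * e (flip g) = 1 := by
  have h : ∀ g < N, toMat n (M g) * toMat n (M (flip g)) = 1 := fun g hg => by
    rw [← (toMat_mul hn0 hn (isMat_of_matOK (hok g hg))
      (isMat_of_matOK (hok _ (hflip g hg).1))).2, Nat.eq_of_beq_eq_true (hinv g hg), isMat_one.2]
  refine ⟨fun g => if hg : g < N then ⟨toMat n (M g), toMat n (M (flip g)), h g hg, ?_⟩ else 1,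
    fun g hg => ?_⟩
  · have := h _ (hflip g hg).1
    rwa [(hflip g hg).2] at this
  · refine ⟨by simp [hg], Units.ext ?_⟩
    simp [hg, (hflip g hg).1, h g hg]

theorem units_word (M : ℕ → ℕ) (e : ℕ → GL (Fin n) (ZMod 5)) : ∀ {w : List ℕ},
    (∀ g ∈ w, (e g : Matrix (Fin n) (Fin n) (ZMod 5)) = toMat n (M g)) →
      (((w.map e).prod : GL (Fin n) (ZMod 5)) : Matrix (Fin n) (Fin n) (ZMod 5)) =
        (w.map fun g => toMat n (M g)).prod
  | [], _ => rfl
  | g :: w, h => by
    rw [List.map_cons, List.prod_cons, List.map_cons, List.prod_cons, Units.val_mul, h g (by simp),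
      units_word M e fun a ha => h a (by simp [ha])]

end Cfsg.Lib.BigMat
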